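import Groth.Prelude.Def_Twist2
import Mathlib.RingTheory.IntegralClosure.IntegrallyClosed
import Mathlib.RingTheory.IntegralClosure.Algebra.Basic
import Mathlib.RingTheory.GradedAlgebra.Radical
import Mathlib.RingTheory.Finiteness.Ideal
import Mathlib.RingTheory.Localization.FractionRing

/-!
# Global sections of `O(d)` on `Proj` of an integrally closed graded domain
-/

universe u

open AlgebraicGeometry TopologicalSpace Opposite DirectSum

namespace Groth.Agent.ProjDegX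

variable {R A : Type u} [CommRing R] [CommRing A] [IsDomain A] [Algebra R A]
  {𝒜 : ℕ → Submodule R A} [GradedAlgebra 𝒜]

/-- Cancelling a homogeneous nonzero factor keeps homogeneity. -/
theorem mem_of_mul_mem {a b : A} {j m : ℕ} (hb : b ∈ 𝒜 j) (hb0 : b ≠ 0)
    (h : a * b ∈ 𝒜 (m + j)) : a ∈ 𝒜 m := by
  classical
  have hz : ∀ n, n ≠ m → ((decompose 𝒜 a n : 𝒜 n) : A) = 0 := by
    intro n hn
    have h1 := coe_decompose_mul_add_of_right_mem 𝒜 (i := n) (a := a) hb
    rw [decompose_of_mem_ne 𝒜 h (by omega)] at h1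
    exact (mul_eq_zero.1 h1.symm).resolve_right hb0
  rw [← sum_support_decompose 𝒜 a]
  refine sum_mem fun n _ => ?_
  by_cases hn : n = m
  · subst hn; exact (decompose 𝒜 a n).2
  · rw [hz n hn]; exact zero_mem _

omit [IsDomain A] in
theorem le_irrelevant_pow (hgen : ∀ i : ℕ, 𝒜 1 * 𝒜 i = 𝒜 (i + 1)) :
    ∀ N : ℕ, ∀ c ∈ 𝒜 N, c ∈ (HomogeneousIdeal.irrelevant 𝒜).toIdeal ^ N := by
  intro N
  induction N with
  | zero => intro c _; simp
  | succ k ih =>
    intro c hc
    rw [← hgen k] at hc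
    refine Submodule.mul_induction_on hc (fun x hx y hy => ?_) fun x y hx hy => add_mem hx hy
    rw [pow_succ']
    exact Ideal.mul_mem_mul (HomogeneousIdeal.mem_irrelevant_of_mem 𝒜 one_pos hx) (ih y hy)

omit [IsDomain A] [GradedAlgebra 𝒜] in
theorem graded_le_mul (hgen : ∀ i : ℕ, 𝒜 1 * 𝒜 i = 𝒜 (i + 1)) (N : ℕ) :
    ∀ d : ℕ, 𝒜 (N + d) ≤ (Ideal.span (𝒜 N : Set A)).restrictScalars R := by
  intro d
  induction d with
  | zero => intro x hx; exact Ideal.subset_span hx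
  | succ k ih =>
    rw [show N + (k + 1) = (N + k) + 1 from rfl, ← hgen (N + k), Submodule.mul_le]
    intro x _ y hy
    exact Ideal.mul_mem_left _ x (ih hy)

set_option maxHeartbeats 1000000 in
theorem globalOf_bijective [IsNoetherianRing A] (hgen : ∀ i : ℕ, 𝒜 1 * 𝒜 i = 𝒜 (i + 1))
    (h1 : 𝒜 1 ≠ ⊥) [IsIntegrallyClosed A] (d : ℕ) :
    Function.Bijective (fun a : ↥(𝒜 d) => Twist.globalOf 𝒜 a) := by
  classical
  obtain ⟨f, hf, hf0⟩ := (Submodule.ne_bot_iff _).1 h1
  let η : ProjectiveSpectrum 𝒜 := ⟨⊥, Ideal.isPrime_bot, fun h => hf0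
    (Ideal.mem_bot.1 (h (HomogeneousIdeal.mem_irrelevant_of_mem 𝒜 one_pos hf)))⟩
  have hηp : η.asHomogeneousIdeal.toIdeal.IsPrime := η.isPrime
  have hη0 : ∀ {b : A}, b ∉ η.asHomogeneousIdeal → b ≠ 0 := fun {b} hb h => hb (h ▸ zero_mem _)
  have hmkη : ∀ {a a' : A} {s s' : η.asHomogeneousIdeal.toIdeal.primeCompl},
      Localization.mk a s = Localization.mk a' s' → (s' : A) * a = (s : A) * a' := by
    intro a a' s s' h
    rw [Localization.mk_eq_mk_iff, Localization.r_iff_exists] at h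
    obtain ⟨c, hc⟩ := h
    exact mul_left_cancel₀ (hη0 c.2) hc
  refine ⟨fun a b h => ?_, fun s => ?_⟩
  · have h' := congrArg Subtype.val (congrFun (congrArg Subtype.val h) ⟨η, trivial⟩)
    have := hmkη h'
    exact Subtype.ext (by simpa using this)
  -- local representatives with exact degrees
  have hrep : ∀ x : (⊤ : Opens (ProjectiveSpectrum.top 𝒜)),
      ∃ (j : ℕ) (a b : A) (_ : a ∈ 𝒜 (j + d)) (_ : b ∈ 𝒜 j) (hx : b ∉ x.1.asHomogeneousIdeal)
        (hη : b ∉ η.asHomogeneousIdeal),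
        (s.1 x).1 = Localization.mk a ⟨b, hx⟩ ∧
        (s.1 ⟨η, trivial⟩).1 = Localization.mk a ⟨b, hη⟩ := by
    intro x
    obtain ⟨V, hxV, iV, i, j, a, b, hb, hdeg, hw⟩ := s.2 x
    have hηV : η ∈ V := by
      refine Specializes.mem_open ?_ V.2 hxV
      exact specializes_iff_mem_closure.2 ((ProjectiveSpectrum.le_iff_mem_closure 𝒜 η x.1).1 (show (⊥ : HomogeneousIdeal 𝒜) ≤ x.1.asHomogeneousIdeal from bot_le))
    have ha : (a : A) ∈ 𝒜 (j + d) := by
      rcases hdeg with h | h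
      · exact (show i = j + d by omega) ▸ a.2
      · rw [h]; exact zero_mem _
    exact ⟨j, a, b, ha, b.2, hb ⟨x.1, hxV⟩, hb ⟨η, hηV⟩, hw ⟨x.1, hxV⟩, hw ⟨η, hηV⟩⟩
  obtain ⟨j₀, a₀, b₀, ha₀, hb₀, hb₀η, -, hs₀, -⟩ := hrep ⟨η, trivial⟩
  have hb₀0 : b₀ ≠ 0 := hη0 hb₀η
  -- the ideal of denominators of `a₀/b₀`
  let S : Set A := {b | SetLike.IsHomogeneousElem 𝒜 b ∧ ∃ a : A, a * b₀ = a₀ * b}
  have hJ : ∀ r ∈ Ideal.span S, ∃ a : A, a * b₀ = a₀ * r := by
    intro r hr
    induction hr using Submodule.span_induction with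
    | mem x hx => exact hx.2
    | zero => exact ⟨0, by simp⟩
    | add x y _ _ hx hy =>
      obtain ⟨a, ha⟩ := hx; obtain ⟨a', ha'⟩ := hy
      exact ⟨a + a', by rw [add_mul, ha, ha', mul_add]⟩
    | smul t x _ hx =>
      obtain ⟨a, ha⟩ := hx
      exact ⟨t * a, by rw [smul_eq_mul, mul_assoc, ha]; ring⟩
  have hcross : ∀ {a b : A} (hη : b ∉ η.asHomogeneousIdeal),
      (s.1 ⟨η, trivial⟩).1 = Localization.mk a ⟨b, hη⟩ → a * b₀ = a₀ * b := by
    intro a b hη h
    have h' := hmkη (h.symm.trans hs₀)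
    change b₀ * a = b * a₀ at h'
    rw [mul_comm a b₀, h', mul_comm]
  have hrad : (HomogeneousIdeal.irrelevant 𝒜).toIdeal ≤ (Ideal.span S).radical := by
    rw [(Ideal.homogeneous_span 𝒜 S fun x hx => hx.1).radical_eq]
    refine le_sInf fun P ⟨hPhom, hSP, hPprime⟩ => ?_
    by_contra hcon
    let x : ProjectiveSpectrum 𝒜 := ⟨⟨P, hPhom⟩, hPprime, fun h => hcon h⟩
    obtain ⟨j, a, b, -, hb, hx, hη, -, hs⟩ := hrep ⟨x, trivial⟩
    exact hx (hSP (Ideal.subset_span ⟨⟨j, hb⟩, a, hcross hη hs⟩))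
  obtain ⟨N, hN⟩ := Ideal.exists_pow_le_of_le_radical_of_fg_radical hrad (IsNoetherian.noetherian _)
  have hmul : ∀ c ∈ 𝒜 N, ∃ a ∈ Ideal.span (𝒜 N : Set A), a * b₀ = a₀ * c := by
    intro c hc
    obtain ⟨a, ha⟩ := hJ c (hN (le_irrelevant_pow hgen N c hc))
    refine ⟨a, graded_le_mul hgen N d (mem_of_mul_mem hb₀ hb₀0 ?_), ha⟩
    rw [ha, show N + d + j₀ = j₀ + d + N by omega]
    exact SetLike.mul_mem_graded ha₀ hc
  -- integrality of `a₀/b₀`
  let K := FractionRing A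
  let q : K := algebraMap A K a₀ / algebraMap A K b₀
  have hbK : algebraMap A K b₀ ≠ 0 := fun h =>
    hb₀0 (IsFractionRing.injective A K (h.trans (map_zero _).symm))
  let M : Submodule A K := Submodule.map (Algebra.linearMap A K) (Ideal.span (𝒜 N : Set A))
  have hM : M ≠ ⊥ := by
    refine (Submodule.ne_bot_iff _).2 ⟨algebraMap A K (f ^ N),
      ⟨f ^ N, Ideal.subset_span (by simpa using SetLike.pow_mem_graded N hf), rfl⟩,
      fun h => pow_ne_zero N hf0 (IsFractionRing.injective A K (h.trans (map_zero _).symm))⟩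
  have hq : IsIntegral A q := by
    refine isIntegral_of_smul_mem_submodule M hM ((IsNoetherian.noetherian _).map _) q ?_
    rintro n ⟨c, hc, rfl⟩
    have hc' : c ∈ Ideal.span (𝒜 N : Set A) := hc
    clear hc
    induction hc' using Submodule.span_induction with
    | mem x hx =>
      obtain ⟨a, ha, heq⟩ := hmul x hx
      refine ⟨a, ha, ?_⟩
      change algebraMap A K a = q * algebraMap A K x
      rw [div_mul_eq_mul_div, eq_div_iff hbK, ← map_mul, ← map_mul, heq]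
    | zero => rw [map_zero, smul_zero]; exact zero_mem _
    | add x y _ _ hx hy => rw [map_add, smul_add]; exact add_mem hx hy
    | smul t x _ hx => rw [map_smul, smul_comm]; exact M.smul_mem t hx
  obtain ⟨α, hα⟩ := (IsIntegrallyClosed.isIntegral_iff (R := A) (K := K)).1 hq
  have hαb : α * b₀ = a₀ := IsFractionRing.injective A K (by
    rw [map_mul, hα, div_mul_cancel₀ _ hbK])
  have hαd : α ∈ 𝒜 d := mem_of_mul_mem hb₀ hb₀0 (by rw [hαb, add_comm]; exact ha₀)
  refine ⟨⟨α, hαd⟩, Subtype.ext (funext fun x => Subtype.ext ?_)⟩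
  obtain ⟨j, a, b, -, -, hx, hη, hsx, hsη⟩ := hrep x
  rw [hsx]
  change Localization.mk α _ = _
  rw [Localization.mk_eq_mk_iff, Localization.r_iff_exists]
  refine ⟨1, ?_⟩
  have h := hcross hη hsη
  rw [← hαb] at h
  have hab : a = α * b := mul_right_cancel₀ hb₀0 (h.trans (by ring))
  simp only [OneMemClass.coe_one, one_mul]
  rw [hab, mul_comm]

end Groth.Agent.ProjDegX
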